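import Mathlib
import Cfsg.Agent.SPOR.W6.Ea
import Cfsg.Agent.SPOR.LXV

/-! Involutions, four-groups and the subgroup `3³` of `O₆⁻(2) = W(E₆)`. -/

set_option autoImplicit false
set_option maxRecDepth 100000

namespace CL.W6

open CL.K CL.CG CL.F2M CL.MSS Cfsg
open CL.F24 (memB memB_iff)

attribute [local irreducible] gcode vcode wc

/-- powers of an element of order 3 -/
def zh {Γ : Type*} [Group Γ] {a : Γ} (h : a ^ 3 = 1) : Multiplicative (ZMod 3) →* Γ where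
  toFun x := a ^ x.toAdd.val
  map_one' := pow_zero a
  map_mul' x y := by rw [toAdd_mul, ZMod.val_add, ← pow_eq_pow_mod _ h, pow_add]

/-- the group generated by three commuting elements of order 3 -/
def zh3 {Γ : Type*} [Group Γ] {a b c : Γ} (ha : a ^ 3 = 1) (hb : b ^ 3 = 1) (hc : c ^ 3 = 1)
    (ab : Commute a b) (ac : Commute a c) (bc : Commute b c) :
    Multiplicative (ZMod 3) × Multiplicative (ZMod 3) × Multiplicative (ZMod 3) →* Γ :=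
  (zh ha).noncommCoprod ((zh hb).noncommCoprod (zh hc) fun _ _ => bc.pow_pow _ _) fun _ _ =>
    (ab.pow_pow _ _).mul_right (ac.pow_pow _ _)

theorem burn {Γ α : Type*} [Group Γ] [MulAction Γ α] [Finite α] {a b c : Γ} (ha : a ^ 3 = 1) (hb : b ^ 3 = 1)
    (hc : c ^ 3 = 1) (ab : Commute a b) (ac : Commute a c) (bc : Commute b c) :
    27 ∣ ∑ i : Fin 3, ∑ j : Fin 3, ∑ l : Fin 3,
      Nat.card (MulAction.fixedBy α (a ^ i.val * (b ^ j.val * c ^ l.val))) := by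
  classical
  let _ := MulAction.compHom α (zh3 ha hb hc ab ac bc)
  have := Fintype.ofFinite α
  have := MulAction.sum_card_fixedBy_eq_card_orbits_mul_card_group
    (Multiplicative (ZMod 3) × Multiplicative (ZMod 3) × Multiplicative (ZMod 3)) α
  simp only [Fintype.sum_prod_type, ← Nat.card_eq_fintype_card] at this
  rw [show Nat.card (Multiplicative (ZMod 3) × Multiplicative (ZMod 3) × Multiplicative (ZMod 3)) = 27 by simp] at this
  exact Dvd.intro_left _ this.symm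

/-- codes in the commutator subgroup -/
noncomputable def w0 (g : G0) : ℕ := wc g.1

theorem C0 : IsCode w0 mm c1 := CW.comp G0.subtype Subtype.val_injective

theorem mem0 {a r s : ℕ} (h : sqB a r s = true) : w0 (elt w0 a) = a :=
  let ⟨g, hg, e⟩ := (sqB_spec h).2
  Mem.code_elt (H := ⊤) ⟨⟨g, hg⟩, trivial, e⟩

/-- generators of `3³` -/
noncomputable def k1 : G0 := elt w0 0x810345084
noncomputable def k2 : G0 := elt w0 0x430e04081
noncomputable def k3 : G0 := elt w0 0x810284a41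
/-- a further element of the same class -/
noncomputable def d2 : G0 := elt w0 0x81a28e201
/-- elements of the normaliser of `3³` -/
noncomputable def tA : G0 := elt w0 0x141f30090
noncomputable def tB : G0 := elt w0 0x830205081
noncomputable def pp : G0 := elt w0 0xa9990060
noncomputable def tC : GW := elt wc 0x810284081

theorem e1 : w0 k1 = 0x810345084 := mem0 (r := mm 0x810345084 0x810345084) (s := 0x810345084) (by decide +kernel)
theorem e2 : w0 k2 = 0x430e04081 := mem0 (r := mm 0x430e04081 0x430e04081) (s := 0x430e04081) (by decide +kernel)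
theorem e3 : w0 k3 = 0x810284a41 := mem0 (r := mm 0x810284a41 0x810284a41) (s := 0x810284a41) (by decide +kernel)
theorem ed : w0 d2 = 0x81a28e201 := mem0 (r := mm 0x81a28e201 0x81a28e201) (s := 0x81a28e201) (by decide +kernel)
theorem eA : w0 tA = 0x141f30090 := mem0 (r := 0xccd5ca9dc) (s := 0x59c8fe9cd) (by decide +kernel)
theorem eB : w0 tB = 0x830205081 := mem0 (r := 0x4d2188e0) (s := 0x4c2388e0) (by decide +kernel)
theorem ep : w0 pp = 0xa9990060 := mem0 (r := 0xe2774a356) (s := 0x58af33e0d) (by decide +kernel)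
theorem eC : wc tC = 0x810284081 := (sqB_spec (a := c1) (s := 0x810284081) (by decide +kernel)).1.code_elt

theorem rel : (k1 ^ 3 = 1 ∧ k2 ^ 3 = 1 ∧ k3 ^ 3 = 1 ∧ k1 * k2 = k2 * k1 ∧ k1 * k3 = k3 * k1 ∧ k2 * k3 = k3 * k2) ∧
    (tA * tA = 1 ∧ tA * k1 = k2 * tA ∧ tA * k2 = k1 * tA ∧ tA * k3 = k3 * tA) ∧
    (tB * tB = 1 ∧ tB * k1 = k1 * k1 * tB ∧ tB * k2 = k2 * k2 * tB ∧ tB * k3 = k3 * tB) ∧
    (pp * k1 = k2 * pp ∧ pp * k2 = k3 * pp ∧ pp * k3 = k1 * pp) ∧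
    k1 * (k2 * k3) ≠ 1 ∧ k1 * k2 ≠ 1 ∧ k1 * (k2 * k2) ≠ 1 := by
  simp only [← C0.inj.eq_iff, ne_eq, pow_succ, pow_zero, one_mul, ← C0.map_mul, C0.map_one, e1, e2, e3, eA, eB, ep]
  decide +kernel

theorem isConj_k1 : IsConj k3 k1 := isConj_iff.2 ⟨pp, mul_inv_eq_of_eq_mul rel.2.2.2.1.2.2⟩
theorem isConj_k2 : IsConj k3 k2 := isConj_k1.trans (isConj_iff.2 ⟨pp, mul_inv_eq_of_eq_mul rel.2.2.2.1.1⟩)
theorem isConj_d2 : IsConj k3 d2 := by
  have := mem0 (a := mm 0xde777e4fc 0xde777e4fc) (r := 0xde777e4fc) (s := 0xfb04dc177) (by decide +kernel)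
  refine isConj_iff.2 ⟨elt w0 (mm 0xde777e4fc 0xde777e4fc), mul_inv_eq_of_eq_mul (C0.inj ?_)⟩
  rw [← C0.map_mul, ← C0.map_mul, this, e3, ed]; decide +kernel

theorem gen_G0 : Subgroup.closure {k1, d2, k2} = ⊤ := by
  have : Fact (Nat.Prime 5) := ⟨by norm_num⟩
  have := simple_G0
  obtain ⟨⟨r1, r2, r3, r4, r5, r6⟩, -⟩ := rel
  generalize hK : Subgroup.closure {k1, d2, k2} = K
  have m1 : k1 ∈ K := hK ▸ Subgroup.subset_closure (by simp)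
  have m2 : k2 ∈ K := hK ▸ Subgroup.subset_closure (by simp)
  have h := C0.mem_of_wordsB (H := K) (L := [0x810345084, 0x81a28e201, 0x430e04081])
    (by simp only [List.forall_mem_cons, List.not_mem_nil, IsEmpty.forall_iff, implies_true, and_true]
        exact ⟨⟨_, m1, e1⟩, ⟨_, hK ▸ Subgroup.subset_closure (by simp), ed⟩, ⟨_, m2, e2⟩⟩)
    (W := [(0x810284a41, [0, 0, 1, 1, 0, 2, 1, 2, 1, 0, 1, 2, 1, 0, 2, 1, 1]), (0x40813cebd, [0, 0, 2, 1, 1, 0, 1]),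
      (0xc10704085, [1, 0, 0, 1, 1, 0, 2, 2, 1, 2, 1, 1]), (0xe0471058d, [0, 0, 1, 1, 0, 2, 2, 1, 2]),
      (0x990204093, [0, 0, 1, 2, 2, 1, 0, 1, 2, 1]), (0x9962040b3, [0, 0, 1, 2, 1, 0, 1, 2, 2, 1]),
      (0x8163840a3, [2, 1, 0, 0, 1, 2, 1, 0, 1, 2]), (0x81038212b, [1, 1, 2, 1, 0, 0, 1, 2, 1, 0, 1, 2, 1])])
    (by decide +kernel)
  rw [List.map_cons, List.map_cons, List.forall_mem_cons, List.forall_mem_cons] at h
  have m3 : k3 ∈ K := C0.elt_mem h.1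
  have a1 : 64 ∣ Nat.card K := by
    rw [← Subgroup.card_map_of_injective G0.subtype_injective]
    exact (show 64 = _ from T0_spec.2.symm) ▸ Subgroup.card_dvd_of_le (CW.gen_le fun c hc =>
      let ⟨g, hg, e⟩ := h.2.2 c hc; ⟨g, ⟨g, hg, rfl⟩, e⟩)
  have a2 : 5 ∣ Nat.card K := by
    rw [← C0.orderOf_elt (fuel := 5) h.2.1 (n := 5) (by norm_num) (by decide +kernel)]
    exact Subgroup.orderOf_dvd_natCard _ (C0.elt_mem h.2.1)
  have a3 : 27 ∣ Nat.card K := by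
    have hi : Function.Injective (zh3 r1 r2 r3 r4 r5 r6) := (injective_iff_map_eq_one _).2 fun x e => by
      have : ∀ i j l : Fin 3, mm (powC mm c1 0x810345084 i) (mm (powC mm c1 0x430e04081 j)
          (powC mm c1 0x810284a41 l)) = c1 → i = 0 ∧ j = 0 ∧ l = 0 := by decide +kernel
      obtain ⟨a, b, c⟩ := this x.1.toAdd x.2.1.toAdd x.2.2.toAdd (by
        rw [← e1, ← e2, ← e3, C0.powC_eq, C0.powC_eq, C0.powC_eq, C0.map_mul, C0.map_mul, ← C0.map_one, ← e]; rfl)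
      exact Prod.ext a (Prod.ext b c)
    have := Subgroup.card_dvd_of_le (show (zh3 r1 r2 r3 r4 r5 r6).range ≤ K by
      rintro _ ⟨x, rfl⟩; exact mul_mem (pow_mem m1 _) (mul_mem (pow_mem m2 _) (pow_mem m3 _)))
    rwa [← Nat.card_congr (MonoidHom.ofInjective hi).toEquiv, show Nat.card _ = 27 by simp] at this
  have a4 := K.index_mul_card
  rw [card_G0] at a4
  obtain ⟨m, hm⟩ := Nat.Coprime.mul_dvd_of_dvd_of_dvd (by norm_num)
    (Nat.Coprime.mul_dvd_of_dvd_of_dvd (by norm_num) a1 a2) a3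
  have a5 : K.index * m = 3 := by rw [hm] at a4; linarith
  rcases K.normalCore_normal.eq_bot_or_eq_top with e | e
  · have := Subgroup.card_dvd_of_injective _ ((MonoidHom.ker_eq_bot_iff _).1 (K.normalCore_eq_ker ▸ e))
    rw [card_G0, Nat.card_perm, ← Subgroup.index] at this
    have h3 := Nat.le_of_dvd (by norm_num) (Dvd.intro _ a5)
    interval_cases K.index <;> simp [Nat.factorial] at this
  · exact top_le_iff.1 (e ▸ K.normalCore_le)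

theorem conj_T1 {K : Subgroup GW} (h : IsPGroup 2 K) : ∃ g : G0, (g : GW) •ᶜ K ≤ T1 := by
  obtain ⟨g, -, e⟩ := sylIn_T1.exists_conj_le h le_top
  by_cases hg : g ∈ G0
  · exact ⟨⟨g, hg⟩, e⟩
  obtain ⟨a, ha, hn⟩ : ∃ a ∈ T1, a ∉ G0 := by
    by_contra! hc
    have := Subgroup.card_dvd_of_le (show T1 ≤ G0 from hc)
    rw [T1_spec.2, card_G0] at this
    norm_num at this
  exact ⟨⟨a * g, (Subgroup.mul_mem_iff_of_index_two index_G0).2 (by simp [hg, hn])⟩,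
    by rw [cj_mul]; exact (cj_mono a e).trans (cj_eq_of_mem ha).le⟩

theorem card_le_32 {B : Subgroup GW} (hB : IsPGroup 2 B) {w : GW} (h : ∀ b ∈ B, b * b = 1 ∨ b * b = w) :
    Nat.card B ≤ 32 := by
  obtain ⟨g, e⟩ := conj_T1 hB
  have h' : ∀ b ∈ (g : GW) •ᶜ B, b * b = 1 ∨ b * b = g * w * (g : GW)⁻¹ := by
    rintro _ ⟨b, hb, rfl⟩
    rw [← map_mul]
    exact (h b hb).imp (fun e => by rw [e, map_one]) fun e => by rw [e]; rfl
  obtain ⟨n, hn⟩ := hB.exists_card_eq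
  rw [← card_cj (g : GW) B] at hn ⊢
  generalize (g : GW) •ᶜ B = B, (g * w * (g : GW)⁻¹ : GW) = w at e h' hn
  by_contra hc
  have h5 : 64 ≤ Nat.card B := by
    rw [hn] at hc ⊢
    exact Nat.pow_le_pow_right (n := 2) (by norm_num) (show 6 ≤ n from by_contra fun h =>
      hc (Nat.pow_le_pow_right (n := 2) (by norm_num) (show n ≤ 5 by omega)))
  have h6 := (B.subgroupOf T1).card_mul_index
  rw [Nat.card_congr (Subgroup.subgroupOfEquivOfLe e).toEquiv, T1_spec.2] at h6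
  have key : ∀ x ∈ T1, ∀ y ∈ T1, x ∈ B ∨ y ∈ B ∨ x * y ∈ B := fun x hx y hy => by
    have h7 : (B.subgroupOf T1).index ≤ 2 := by nlinarith
    have h8 : (B.subgroupOf T1).index ≠ 0 := Subgroup.index_ne_zero_of_finite
    by_cases h9 : (B.subgroupOf T1).index = 1
    · exact Or.inl ((Subgroup.index_eq_one.1 h9).ge (Subgroup.mem_top (⟨x, hx⟩ : T1)))
    have := Subgroup.mul_mem_iff_of_index_two (H := B.subgroupOf T1) (by omega) (a := ⟨x, hx⟩) (b := ⟨y, hy⟩)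
    simp only [Subgroup.mem_subgroupOf, Subgroup.coe_mul] at this
    tauto
  have m : ∀ c, plK mm c1 (0xc10604081 :: LT) (memB c) = true → ∃ x ∈ T1, wc x = c := fun c hc =>
    mem_of_pl CW (mem_gen mem_LT1) c (memB_iff.1 (by rwa [plK_eq] at hc))
  obtain ⟨x, hx, ex⟩ := m 0xe0429643f (by decide +kernel)
  obtain ⟨y, hy, ey⟩ := m 0xe0469643f (by decide +kernel)
  obtain ⟨u, hu, eu⟩ := m 0xc167840b3 (by decide +kernel)
  have h7 := h' (x * x) ((key x hx x hx).elim (fun h => mul_mem h h) fun h => h.elim (fun h => mul_mem h h) id)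
  have h8 := (key y hy u hu).imp (h' _) (Or.imp (h' _) (h' _))
  simp only [← CW.inj.eq_iff, ← CW.map_mul, CW.map_one, ex, ey, eu] at h7 h8
  rw [← h7.resolve_left (by decide +kernel)] at h8
  revert h8
  decide +kernel

/-- `u` inverts an element of the class of `k3` -/
def NI (u : GW) : Prop := ∃ d : G0, IsConj k3 d ∧ u * d = d * d * u

theorem NI.conj {u : GW} (g : G0) (h : NI (g * u * (g : GW)⁻¹)) : NI u := by
  obtain ⟨d, h1, h2⟩ := h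
  refine ⟨g⁻¹ * d * g⁻¹⁻¹, h1.trans (isConj_iff.2 ⟨_, rfl⟩), ?_⟩
  calc u * (g⁻¹ * d * g⁻¹⁻¹ : G0) = (g : GW)⁻¹ * (g * u * (g : GW)⁻¹ * d) * g := by push_cast; group
    _ = _ := by rw [h2]; push_cast; group

/-- `d` moves `v` inside a 2-group -/
def Gd (v d : GW) : Prop := v * (d * v * d⁻¹) ≠ 1 ∧ (v * (d * v * d⁻¹)) ^ 8 = 1

/-- certificate for a four-group -/
def Fo (u v : GW) : Prop := ((∃ a b : GW, a ^ 3 = 1 ∧ b ^ 3 = 1 ∧ a * u = u * a ∧ b * u = u * b ∧ Gd v (a * b * a⁻¹ * b⁻¹)) ∨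
  ∃ a b : GW, a ^ 3 = 1 ∧ b ^ 3 = 1 ∧ a * v = v * a ∧ b * v = v * b ∧ Gd u (a * b)) ∧ (NI u ∨ NI v ∨ NI (u * v))

/-- an involution with its certificates -/
structure En where
  u : ℕ
  i : ℕ
  r : ℕ
  s : ℕ
  A : List (ℕ × ℕ)
  B : List (ℕ × ℕ)

/-- the certificates -/
def DE : List En := [⟨0x81038212b, 0, 0xf1760e15e, 0xd8535e5dc, [(0xd8c098797, 0x70a1737fe)], [(0x83a36b063, 0x990cff4c2), (0xd8c098797, 0x70a1737fe)]⟩,
  ⟨0x8163840a3, 0, 0xe937c8058, 0xd8511c5c2, [(0x68daf870e, 0xe375daf8c)], [(0x70f37e6b6, 0x6277def0d), (0x137a660b0, 0x61033cebd)]⟩,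
  ⟨0x81620210f, 1, 0xaf73c5c1a, 0x3cd6a75a3, [(0x70a238fa7, 0xf362187a7)], [(0xeb021e601, 0xf3021879d), (0x70a238fa7, 0xf362187a7)]⟩,
  ⟨0x9962040b3, 0, 0xc0d09c7c4, 0xe9a7c120e, [(0x7e3f8ee96, 0x418e3ce81)], [(0x9d7202d9c, 0x141f02c29), (0x690dbee3f, 0x77eb00a3)]⟩,
  ⟨0x99638211f, 1, 0x2964f8367, 0x8fd697e8f, [(0x41c138fbd, 0x6a0e0e201)], [(0x720e0838d, 0x720e0838d), (0x41c138fbd, 0x6a0e0e201)]⟩,
  ⟨0x990384097, 1, 0x56a73090, 0x9c13d30a0, [(0x710c38f85, 0x7902baf3f)], [(0x6102bce81, 0x6102bce81), (0x61033cebd, 0x690dbee3f)]⟩,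
  ⟨0x99020213d, 1, 0x3c2f569f6, 0x17d9e943e, [(0xe1840c281, 0xe1e40a317)], [(0xe1840c281, 0xe1e40a317), (0xc0861c681, 0xe1e40a317)]⟩,
  ⟨0x990204093, 0, 0x20d74e829, 0x98813de3, [(0x35039613f, 0xccc09e2a6)], [(0xf5a30873e, 0x4de0982a7), (0x8d06825b8, 0xe1e40a317)]⟩,
  ⟨0x99038213f, 1, 0x602f368f7, 0x5fc73f405, [(0xc0c11879d, 0xe9c788397)], [(0xd8a11e60d, 0xd8a11e60d), (0xe9a60e201, 0xc0c11879d)]⟩,
  ⟨0x9963840b7, 1, 0x377a633bc, 0x99accefdd, [(0xe0829c681, 0xf8e29a71f)], [(0xe0829c681, 0xf8e29a71f), (0xf0c418785, 0xf8e31a705)]⟩,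
  ⟨0x99620211d, 1, 0x3cd7769d6, 0x1589e9c1e, [(0x7a6d8c2bf, 0x626c0a337)], [(0x598fbaf37, 0x59efbce8f), (0x59efbce8f, 0x7a0d8a30f)]⟩,
  ⟨0x8162040a7, 1, 0xe8c22363d, 0xf4a2187e6, [(0x81a30e20f, 0x81e10a30f)], [(0x81a28e201, 0x81a30e20f), (0x81a28e201, 0x81e08a305)]⟩,
  ⟨0x81638210d, 1, 0x745e1ec29, 0xe3a2a35f3, [(0xe3041c681, 0xfb059a71f)], [(0xe3041c681, 0xfb059a71f), (0x608c3ce81, 0xe3641c6bf)]⟩,
  ⟨0x810384085, 1, 0x61c7bd7f0, 0x79fff060a, [(0xc266040b7, 0xc20604081)], [(0xda07840a7, 0xc20604081), (0x430e04081, 0xda6784097)]⟩,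
  ⟨0x810202129, 0, 0xf977cc15c, 0xd8561c5de, [(0xfb6e13f5c, 0x810985ac4)], [(0x59efbce8f, 0xda07840a7), (0xfb6e13f5c, 0x810985ac4)]⟩,
  ⟨0xe0471058d, 1, 0x348e3c9dc, 0x15d40cdfc, [(0x5da08eff6, 0x5e7ff3736)], [(0x5e7ff3736, 0x5e7ff3736), (0x5da08eff6, 0x5e7ff3736)]⟩,
  ⟨0xf82696413, 1, 0x158837f29, 0x223cda3fa, [], [(0xe1f41c356, 0xdcd08e7d6)]⟩,
  ⟨0xf8471059f, 1, 0x176f82c1c, 0x34f616136, [(0x4dcdc8f7e, 0x81c8c8a4d)], [(0x4dcdc8f7e, 0x81c8c8a4d), (0x7e313738d, 0x7c8ddcf66)]⟩,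
  ⟨0xe02696401, 1, 0x32b5cf805, 0xbad96cd7, [], [(0x81c10538d, 0x81c10538d)]⟩,
  ⟨0xc10704085, 1, 0xc20701085, 0x430f45084, [], [(0x7d0284f7e, 0x810284a41), (0x7d0284f7e, 0x7d0dc4afe)]⟩,
  ⟨0xd90684093, 1, 0x127a560a0, 0x66ea00b3, [], [(0x81d2843cc, 0xf5d6043cc), (0xf4d5c47dc, 0xf5d6043cc)]⟩,
  ⟨0xd90704097, 1, 0x348dbc39c, 0x15f40e73e, [], [(0x5f7fe30a6, 0x5f7fe30a6), (0x4e3ff70b6, 0x4f3627081)]⟩,
  ⟨0xc10684081, 1, 0x17d79cf8c, 0x285ffe31e, [], [(0x810345084, 0x810345084), (0xd90793097, 0xcd07d7096)]⟩,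
  ⟨0xf0421059d, 1, 0x60534cdfc, 0xf7861c5cc, [(0x4e3237601, 0x81e20aacf)], [(0x4de20affc, 0x74a21efe6), (0x837223326, 0x4de20affc)]⟩,
  ⟨0xf02216413, 1, 0x15a7b7fab, 0x2a3f98378, [], [(0xdcf7cc756, 0xdcf7cc756)]⟩,
  ⟨0xe8421058f, 1, 0x3ca77e9de, 0x15f9cedfe, [(0x8338e7281, 0xf33de779d)], [(0x8338e7281, 0xf33de779d), (0x818acca41, 0xf33de779d)]⟩,
  ⟨0xe82216401, 1, 0x3b0eb716b, 0x8f33b85ba, [], [(0xf1f21834e, 0xccd20a7dc)]⟩,
  ⟨0xc10604081, 2, 0xc0809c681, 0xe9a40e201, [(0xdd07d3f16, 0x2909b8053), (0x6108fca41, 0x39022b17c)], [(0x3906bc16b, 0xcd0217e01), (0x610341ebc, 0xdd08d3f96)]⟩,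
  ⟨0xc1078212b, 3, 0x9d5f75b3, 0x327e0580a, [(0x310757f69, 0x8109c1ac5)], [(0x990cff4c2, 0x99077d5ff), (0x310757f69, 0x8109c1ac5)]⟩,
  ⟨0xd90784097, 2, 0xc0811c69d, 0xf1c408385, [(0x837ae3085, 0x3be8377eb), (0xa7381de01, 0xf7723e7e6)], [(0x5f4facca, 0x72323834e), (0x9b881dcca, 0x6a7ffe3f6), (0xc276330b6, 0x4f3627081)]⟩,
  ⟨0xd9060213d, 3, 0x17d81c5cc, 0x205f7c9dc, [(0x2ba4f37d8, 0x9bcf5ddd3)], [(0x2ba4f37d8, 0x83c067369), (0x2ba4f37d8, 0x33aa4f8d8)]⟩,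
  ⟨0xd90604093, 3, 0x348dbc39c, 0x15f40e73e, [(0x8d06825b8, 0x9d02025bc)], [(0x8d06825b8, 0x9d02025bc), (0x8d03825ba, 0x35039613f)]⟩,
  ⟨0xd9078213f, 3, 0x17fdde5ce, 0x28563e9de, [], [(0x2383b375a, 0x2383b375a)]⟩,
  ⟨0xc10784085, 3, 0xc20701085, 0x430f45084, [(0xac2690130, 0x4468242b)], [(0xa42710130, 0xa42210120), (0xac2690130, 0x4468242b)]⟩,
  ⟨0xc10602129, 3, 0x3e9f9d23d, 0x17a0ab797, [], [(0x99083d4c2, 0x810985ac4)]⟩,
  ⟨0x810304085, 2, 0x81c088385, 0x81a10e20f, [(0x7e0dc434e, 0xaf6044fda), (0x98fcc4808, 0x810284a41)], [(0xda6784097, 0x9abcc480a), (0xf4df84a5c, 0xda07840a7), (0x7e9e84c18, 0x5b6f840a7)]⟩,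
  ⟨0x8162840a7, 3, 0x9f84dccca, 0x2bc99e9d3, [(0x9d9c49b3, 0x9a94c4808)], [(0x9f0449b3, 0x9a94c4808), (0x98d4c480a, 0x9abcc480a)]⟩,
  ⟨0x9963040b7, 3, 0x638ea9363, 0xc3d776629, [(0x76b204c1a, 0x3cde84da3)], [(0xffdf04d93, 0xffdf04d93), (0x3cde84da3, 0xa5ff04c18)]⟩,
  ⟨0x990284093, 3, 0x9f5d6126, 0x8e660280c, [], [(0xcc42160a6, 0xcc42160a6)]⟩,
  ⟨0x990304097, 3, 0x71d5c86b8, 0x7da13e730, [], [(0x3c26845a3, 0x3c26845a3)]⟩,
  ⟨0x9962840b3, 3, 0x638f0128d, 0xc3d7587c4, [(0xdc1f30093, 0x8e73b60a0)], [(0x1733b0097, 0x5d3eb6090), (0x4d72360a6, 0x5d3eb6090)]⟩,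
  ⟨0x8163040a3, 3, 0x608301ebd, 0xf704187c4, [(0x113a66090, 0x9a3f60097)], [(0x1173e60b6, 0x9a3f60097), (0x9a3f60097, 0x9a77600b3)]⟩,
  ⟨0x810284081, 2, 0x810204081, 0x810204081, [(0xc276330b6, 0x76e930a3), (0x9a77600b3, 0x9e67130b3)], [(0x430f45084, 0x4e3f810b7), (0x8333410a7, 0x9e3f36096)]⟩]

noncomputable def c3B (u c : ℕ) : Bool :=
  sqB c (mm c c) c && Nat.beq (mm (mm c c) c) c1 && Nat.beq (mm c u) (mm u c)

noncomputable def gdB (v d d' : ℕ) : Bool := force (mm v (mm (mm d v) d')) fun m => !Nat.beq m c1 &&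
  force (mm m m) fun m => force (mm m m) fun m => Nat.beq (mm m m) c1

theorem chk_en : lall (fun e : En => sqB (mm e.r e.r) e.r e.s && blt e.i 4 &&
    Nat.beq (mm e.u (mm e.r e.r)) (mm (mm e.r e.r) (lget [0x141f30090, 0x830205081, 0x810284081, 0x830285081] e.i)) &&
    lall (fun p => c3B e.u p.1 && c3B e.u p.2) e.A && lall (fun p => c3B e.u p.1 && c3B e.u p.2) e.B) DE = true := by
  decide +kernel

theorem chk_cov : plK mm c1 (0xc10604081 :: LT) (lall fun u => !Nat.beq (mm u u) c1 || Nat.beq u c1 ||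
    lany (fun e : En => Nat.beq e.u u) DE) = true := by decide +kernel

theorem chk_pr : lall (fun e : En => lall (fun f : En => force (mm e.u f.u) fun w => Nat.beq e.u f.u ||
    !Nat.beq w (mm f.u e.u) || ((lany (fun p => gdB f.u (mm (mm (mm p.1 p.2) (mm p.1 p.1)) (mm p.2 p.2))
      (mm (mm (mm p.2 p.1) (mm p.2 p.2)) (mm p.1 p.1))) e.A ||
    lany (fun p => gdB e.u (mm p.1 p.2) (mm (mm p.2 p.2) (mm p.1 p.1))) f.B) &&
    (!Nat.beq e.i 0 || !Nat.beq f.i 0 || lany (fun g : En => Nat.beq g.u w && !Nat.beq g.i 0) DE))) DE) DE = true := by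
  decide +kernel

theorem tC_not : tC ∉ G0 := fun h => by
  obtain ⟨g, hg, eg⟩ := (sqB_spec (a := mm 0xc0809c681 0xc0809c681) (r := 0xc0809c681) (s := 0xe9a40e201)
    (by decide +kernel)).2
  obtain ⟨a, -, ea⟩ := mem_LT1 _ List.mem_cons_self
  have e : a = g * tC * g⁻¹ := eq_mul_inv_of_mul_eq (CW.inj (by
    rw [← CW.map_mul, ← CW.map_mul, ea, eg, eC]; decide +kernel))
  have := Subgroup.card_dvd_of_le (show T1 ≤ G0 from CW.gen_le (List.forall_mem_cons.2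
    ⟨⟨a, e ▸ mul_mem (mul_mem hg h) (inv_mem hg), ea⟩, mem_LT⟩))
  rw [T1_spec.2, card_G0] at this
  norm_num at this

theorem en_spec {u : GW} (hu : u ∈ T1) (h2 : u * u = 1) (h1 : u ≠ 1) : ∃ e ∈ DE, e.u = wc u := by
  have := lall_iff.1 (plK_eq (mul := mm) _ _ ▸ chk_cov) _ ((T1_spec.1 u).1 hu)
  simp only [CW.map_mul, h2, CW.map_one, Nat.beq_refl, Bool.not_true, Bool.false_or, Bool.or_eq_true, lany_iff,
    Nat.beq_eq] at this
  exact this.resolve_left fun e => h1 (CW.inj (e.trans CW.map_one.symm))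

theorem en_cls {u : GW} {e : En} (he : e ∈ DE) (eu : e.u = wc u) :
    (e.i = 0 ∧ ∃ g : G0, u = (g * tA * g⁻¹ : G0)) ∨
      (e.i ≠ 0 ∧ NI u ∧ (u ∈ G0 → ∃ g : G0, u = (g * tB * g⁻¹ : G0))) := by
  have := lall_iff.1 chk_en e he
  simp only [Bool.and_eq_true, Nat.beq_eq] at this
  obtain ⟨⟨⟨⟨h1, h2⟩, h3⟩, -⟩, -⟩ := this
  obtain ⟨g, hg, eg⟩ := (sqB_spec h1).2
  have k : ∀ t : GW, lget [0x141f30090, 0x830205081, 0x810284081, 0x830285081] e.i = wc t → u = g * t * g⁻¹ :=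
    fun t et => eq_mul_inv_of_mul_eq (CW.inj (by rw [← CW.map_mul, ← CW.map_mul, ← et, eg, ← eu, h3]))
  have k' : ∀ t : GW, u = g * t * g⁻¹ → NI t → NI u := fun t et h => NI.conj (⟨g, hg⟩ : G0)⁻¹ (by simpa [et, mul_assoc])
  have eA' : wc tA = _ := eA
  have eB' : wc tB = _ := eB
  have e3' : wc k3 = _ := e3
  have nC := tC_not
  have hi := lt_of_blt h2
  interval_cases h : e.i
  · exact Or.inl ⟨rfl, ⟨g, hg⟩, k tA eA'.symm⟩
  · exact Or.inr ⟨by simp, k' _ (k tB eB'.symm) ⟨k1, isConj_k1, congrArg Subtype.val rel.2.2.1.2.1⟩,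
      fun _ => ⟨⟨g, hg⟩, k tB eB'.symm⟩⟩
  · refine Or.inr ⟨by simp, k' _ (k tC eC.symm) ⟨k3, IsConj.refl _, CW.inj ?_⟩, fun hu => (nC ?_).elim⟩
    · simp only [← CW.map_mul, eC, e3']; decide +kernel
    · rw [k tC eC.symm] at hu
      simpa [mul_assoc] using mul_mem (mul_mem (inv_mem hg) hu) hg
  · have e := k (tB * tC) (by rw [← CW.map_mul, eB', eC]; decide +kernel)
    refine Or.inr ⟨by simp, k' _ e ⟨k3, IsConj.refl _, CW.inj ?_⟩, fun hu => (nC ?_).elim⟩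
    · simp only [← CW.map_mul, eC, e3', eB']; decide +kernel
    · rw [e] at hu
      simpa [mul_assoc] using mul_mem (inv_mem tB.2) (mul_mem (mul_mem (inv_mem hg) hu) hg)

theorem pair_T1 {u v : GW} (hu : u * u = 1) (hv : v * v = 1) (c : u * v = v * u) :
    ∃ g : G0, g * u * (g : GW)⁻¹ ∈ T1 ∧ g * v * (g : GW)⁻¹ ∈ T1 := by
  obtain ⟨g, e⟩ := conj_T1 (K := Subgroup.closure {u, v}) fun k => ⟨1, Subtype.ext (by
    rcases (LX.mem_closure_four hu hv c).1 k.2 with e | e | e | e <;> simp [pow_two, e, hu, hv]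
    rw [mul_assoc, ← mul_assoc v, ← c, mul_assoc, hv, mul_one, hu])⟩
  exact ⟨g, e ⟨u, Subgroup.subset_closure (by simp), rfl⟩, e ⟨v, Subgroup.subset_closure (by simp), rfl⟩⟩

/-- the classes of involutions -/
theorem inv_cases {u : GW} (h2 : u * u = 1) (h1 : u ≠ 1) : (∃ g : G0, u = (g * tA * g⁻¹ : G0)) ∨
    (NI u ∧ (u ∈ G0 → ∃ g : G0, u = (g * tB * g⁻¹ : G0))) := by
  obtain ⟨g, hg, -⟩ := pair_T1 h2 h2 rfl
  obtain ⟨e, he, eu⟩ := en_spec hg (by simp [mul_assoc, ← mul_assoc u, h2]) (by simpa using h1)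
  have k : ∀ t : G0, (∃ k : G0, g * u * (g : GW)⁻¹ = (k * t * k⁻¹ : G0)) → ∃ k : G0, u = (k * t * k⁻¹ : G0) :=
    fun t ⟨k, e⟩ => ⟨g⁻¹ * k, by
      push_cast at e ⊢
      rw [mul_assoc, mul_assoc, mul_inv_rev, ← mul_assoc (t : GW), ← mul_assoc (k : GW), ← mul_assoc (k : GW), ← e]
      group⟩
  exact (en_cls he eu).imp (fun h => k _ h.2) fun h =>
    ⟨h.2.1.conj g, fun hu => k _ (h.2.2 (mul_mem (mul_mem g.2 hu) (inv_mem g.2)))⟩

theorem c3B_spec {u : GW} {c : ℕ} (h : c3B (wc u) c = true) : ∃ a, wc a = c ∧ a ^ 3 = 1 ∧ a * u = u * a := by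
  simp only [c3B, Bool.and_eq_true, Nat.beq_eq] at h
  obtain ⟨a, -, rfl⟩ := (sqB_spec h.1.1).2
  simp only [CW.map_mul, ← CW.map_one, CW.inj.eq_iff] at h
  exact ⟨a, rfl, by rw [← h.1.2, pow_three'], h.2⟩

theorem gdB_spec {v d d' : GW} (h : gdB (wc v) (wc d) (wc d') = true) (e : d' = d⁻¹) : Gd v d := by
  simp only [gdB, force_eq, CW.map_mul, ← CW.map_one, Bool.and_eq_true, Nat.beq_eq, CW.inj.eq_iff, e,
    Bool.not_eq_true'] at h
  exact ⟨fun e => by simp [e] at h, by rw [← h.2]; simp only [pow_succ, pow_zero, one_mul, mul_assoc]⟩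

theorem fo_T1 {u v : GW} (mu : u ∈ T1) (mv : v ∈ T1) (hu : u * u = 1) (hv : v * v = 1) (u1 : u ≠ 1) (v1 : v ≠ 1)
    (c : u * v = v * u) (n : u ≠ v) : Fo u v := by
  obtain ⟨e, he, eu⟩ := en_spec mu hu u1
  obtain ⟨f, hf, ev⟩ := en_spec mv hv v1
  have h := lall_iff.1 (lall_iff.1 chk_pr e he) f hf
  have h1 := lall_iff.1 chk_en e he
  have h2 := lall_iff.1 chk_en f hf
  simp only [force_eq, eu, ev, CW.map_mul, c, Nat.beq_refl, Bool.not_true, Bool.or_false, Bool.or_eq_true,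
    Bool.and_eq_true, Nat.beq_eq, CW.inj.eq_iff, n, false_or, lany_iff, lall_iff, Bool.not_eq_true'] at h h1 h2
  have inv : ∀ {a : GW}, a ^ 3 = 1 → a * a = a⁻¹ := fun h => eq_inv_of_mul_eq_one_left (by rw [← h, pow_three'])
  refine ⟨h.1.imp ?_ ?_, ?_⟩
  · rintro ⟨p, hp, k⟩
    obtain ⟨a, ea, a3, ca⟩ := c3B_spec (h1.1.2 p hp).1
    obtain ⟨b, eb, b3, cb⟩ := c3B_spec (h1.1.2 p hp).2
    simp only [← ea, ← eb, CW.map_mul, inv a3, inv b3] at k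
    exact ⟨a, b, a3, b3, ca, cb, gdB_spec k (by group)⟩
  · rintro ⟨p, hp, k⟩
    obtain ⟨a, ea, a3, ca⟩ := c3B_spec (h2.2 p hp).1
    obtain ⟨b, eb, b3, cb⟩ := c3B_spec (h2.2 p hp).2
    simp only [← ea, ← eb, CW.map_mul, inv a3, inv b3] at k
    exact ⟨a, b, a3, b3, ca, cb, gdB_spec k (by group)⟩
  have k : ∀ {w : GW} {g : En}, g ∈ DE → g.u = wc w → Nat.beq g.i 0 = false → NI w := fun hg eg h =>
    ((en_cls hg eg).resolve_left fun e => by simp [e.1] at h).2.1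
  rcases h.2 with (h | h) | ⟨g, hg, eg, h⟩
  exacts [Or.inl (k he eu h), Or.inr (Or.inl (k hf ev h)), Or.inr (Or.inr (c ▸ k hg eg h))]

theorem four {u v : GW} (hu : u * u = 1) (hv : v * v = 1) (u1 : u ≠ 1) (v1 : v ≠ 1)
    (c : u * v = v * u) (n : u ≠ v) : Fo u v := by
  obtain ⟨g, mu, mv⟩ := pair_T1 hu hv c
  let f := MulAut.conj (g : GW)
  obtain ⟨h1, h2⟩ := fo_T1 (u := f u) (v := f v) mu mv (by rw [← map_mul, hu, map_one]) (by rw [← map_mul, hv, map_one])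
    (by simpa using u1) (by simpa using v1) (by rw [← map_mul, c, map_mul]) (by simpa using n)
  refine ⟨h1.imp ?_ ?_, h2.imp (NI.conj g) (Or.imp (NI.conj g) fun h => NI.conj g (by rwa [← map_mul] at h))⟩
  all_goals
    rintro ⟨a, b, h⟩
    obtain ⟨a, rfl⟩ := f.surjective a
    obtain ⟨b, rfl⟩ := f.surjective b
    simp only [Gd, ← map_mul, ← map_inv, ← map_pow, f.injective.eq_iff, ne_eq, map_eq_one_iff f f.injective] at h
    exact ⟨a, b, h⟩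

end CL.W6
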