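import Mathlib
import Cfsg.Agent.SPOR.W6.Cls
import Cfsg.Agent.SPOR.LE.Lin

/-! Orthogonal modules of `Ω₆⁻(2)` over `F₂` of dimension 8 modulo the radical. -/

set_option autoImplicit false
set_option maxRecDepth 100000

namespace CL.W6

open QuadraticMap Module CL.LE CL.K CL.CG LinearMap

theorem cls3 (f : G0 → ℕ) (h1 : ∀ g w, f (g * w * g⁻¹) = f w) (h2 : ∀ w, f w⁻¹ = f w) (i j l : Fin 3) :
    f (k1 ^ i.val * (k2 ^ j.val * k3 ^ l.val)) =
      f ([1, k3, k1 * k2, k1 * (k2 * k3)].getD (min i.val 1 + min j.val 1 + min l.val 1) 1) := by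
  have key : ∀ i j l : Fin 3, ∃ p ∈ [(c1, c1), (0x813148042, 0x81310a042), (0x58af33e0d, 0xe2774a356),
      (0xe2774a356, 0x58af33e0d), (0x63ef3d337, 0xdfd75f60c), (0xdfd75f60c, 0x63ef3d337), (0xe2671d317, 0x5caf7fe0c),
      (0x63ff4a376, 0xdbc71360d), (0xf011484d0, 0xf411184d0), (0xe02296401, 0xe82616401), (0xa42f20110, 0x1013c242b),
      (0xac2ea0110, 0x101742429)], sqB (mm p.1 p.1) p.1 p.2 = true ∧ ∀ x ∈ [mm (powC mm c1 0x810345084 i)
        (mm (powC mm c1 0x430e04081 j) (powC mm c1 0x810284a41 l))], ∀ r ∈ [[c1, 0x810284a41, mm 0x810345084 0x430e04081,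
          mm 0x810345084 (mm 0x430e04081 0x810284a41)].getD (min i.val 1 + min j.val 1 + min l.val 1) c1],
        mm x (mm p.1 p.1) = mm (mm p.1 p.1) r ∨ mm x (mm (mm p.1 p.1) r) = mm p.1 p.1 := by decide +kernel
  obtain ⟨p, -, hp, h⟩ := key i j l
  have := h _ List.mem_cons_self _ List.mem_cons_self
  rw [← mem0 hp, ← e1, ← e2, ← e3, C0.powC_eq, C0.powC_eq, C0.powC_eq, ← C0.map_one] at this
  simp only [C0.map_mul] at this
  have e := List.getD_map [1, k3, k1 * k2, k1 * (k2 * k3)] 1 w0 (n := min i.val 1 + min j.val 1 + min l.val 1)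
  simp only [List.map_cons, List.map_nil] at e
  rw [e] at this
  simp only [C0.map_mul, C0.inj.eq_iff] at this
  rcases this with e | e
  · rw [eq_mul_inv_of_mul_eq e, h1]
  · rw [eq_mul_inv_of_mul_eq e, mul_inv_rev, ← mul_assoc, h1, h2]

variable {V : Type*} [AddCommGroup V] [Module (ZMod 2) V]

/-- `t + 1` -/
def nn (t : V ≃ₗ[ZMod 2] V) : V →ₗ[ZMod 2] V := t.toLinearMap + LinearMap.id

theorem nn_apply (t : V ≃ₗ[ZMod 2] V) (v : V) : nn t v = t v + v := rfl

theorem mem_ker_nn {t : V ≃ₗ[ZMod 2] V} {v : V} : v ∈ ker (nn t) ↔ t v = v := v2_add_eq_zero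

theorem tt_apply {t : V ≃ₗ[ZMod 2] V} (h : t * t = 1) (v : V) : t (t v) = v := LinearEquiv.congr_fun h v

theorem nn_nn {t : V ≃ₗ[ZMod 2] V} (h : t * t = 1) (v : V) : nn t (nn t v) = 0 := by
  rw [nn_apply, nn_apply, map_add, tt_apply h, add_comm v, v2_add_self]

theorem nn_comm {t d : V ≃ₗ[ZMod 2] V} (h : t * d = d * t) (v : V) : nn t (d v) = d (nn t v) := by
  rw [nn_apply, nn_apply, map_add, ← LinearEquiv.mul_apply, h]; rfl

theorem ddd {d : V ≃ₗ[ZMod 2] V} (h : d ^ 3 = 1) (v : V) : d (d (d v)) = v := by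
  rw [pow_three] at h; exact LinearEquiv.congr_fun h v

theorem fix_tr {d : V ≃ₗ[ZMod 2] V} (h : d ^ 3 = 1) (v : V) : d (v + d v + d (d v)) = v + d v + d (d v) := by
  rw [map_add, map_add, ddd h]; abel

theorem tr_nn {d : V ≃ₗ[ZMod 2] V} (v : V) : v + d v + d (d v) + nn d (d v) = v := by
  rw [nn_apply, add_assoc v, add_assoc v, add_comm (d v), v2_add_self, add_zero]

theorem eq_zero_of_fix {d : V ≃ₗ[ZMod 2] V} (h : d ^ 3 = 1) {v : V} (h1 : v ∈ range (nn d)) (h2 : d v = v) :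
    v = 0 := by
  obtain ⟨u, rfl⟩ := h1
  rw [nn_apply, map_add, add_comm (d u), add_left_inj] at h2
  have := ddd h u
  rw [h2] at this
  rw [nn_apply, this, v2_add_self]

variable [Finite V]

theorem parity {d : V ≃ₗ[ZMod 2] V} (h : d ^ 3 = 1) {S : Submodule (ZMod 2) V} (hS : ∀ v ∈ S, d v ∈ S) :
    finrank (ZMod 2) S % 2 = finrank (ZMod 2) ↥(S ⊓ ker (nn d)) % 2 := by
  classical
  have : Fact (Nat.Prime 3) := ⟨Nat.prime_three⟩
  have := Fintype.ofFinite S
  let f : Function.End S := fun v => ⟨d v, hS v v.2⟩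
  have h1 := Equiv.Perm.card_fixedPoints_modEq (f := f) (p := 3) (n := 1)
    (funext fun v => Subtype.ext (ddd h v))
  rw [← Nat.card_eq_fintype_card, ← Nat.card_eq_fintype_card, card_v2, Nat.card_congr
    (show Function.fixedPoints f ≃ ↥(S ⊓ ker (nn d)) from
      ⟨fun v => ⟨v.1, v.1.2, mem_ker_nn.2 (congrArg Subtype.val v.2)⟩,
        fun v => ⟨⟨v.1, v.2.1⟩, Subtype.ext (mem_ker_nn.1 v.2.2)⟩, fun _ => rfl, fun _ => rfl⟩), card_v2] at h1
  have k : ∀ n, 2 ^ n % 3 = 1 + n % 2 := fun n => by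
    rw [← Nat.div_add_mod n 2, pow_add, pow_mul, Nat.mul_mod, Nat.pow_mod]
    rcases Nat.mod_two_eq_zero_or_one n with e | e <;> simp [e, Nat.add_mod]
  rw [Nat.ModEq, k, k] at h1
  omega

theorem eq_of_inv {d : V ≃ₗ[ZMod 2] V} (h : d ^ 3 = 1) (h2 : finrank (ZMod 2) (range (nn d)) = 2)
    {S : Submodule (ZMod 2) V} (hS : ∀ v ∈ S, d v ∈ S) (hle : S ≤ range (nn d)) (h0 : S ≠ ⊥) :
    S = range (nn d) := by
  have h1 := parity h hS
  rw [show S ⊓ ker (nn d) = ⊥ from eq_bot_iff.2 fun v hv => eq_zero_of_fix h (hle hv.1) (mem_ker_nn.1 hv.2),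
    finrank_bot] at h1
  have := Submodule.finrank_eq_zero.not.2 h0
  exact Submodule.eq_of_le_of_finrank_le hle (by omega)

theorem two_mul_map_le {t : V ≃ₗ[ZMod 2] V} (h : t * t = 1) {S : Submodule (ZMod 2) V} (hS : ∀ v ∈ S, t v ∈ S) :
    2 * finrank (ZMod 2) (S.map (nn t)) ≤ finrank (ZMod 2) S := by
  have h1 := finrank_range_add_finrank_ker ((nn t).domRestrict S)
  rw [range_domRestrict, ker_domRestrict, ← Submodule.finrank_map_subtype_eq] at h1
  have : S.map (nn t) ≤ ((ker (nn t)).comap S.subtype).map S.subtype := by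
    rintro _ ⟨v, hv, rfl⟩
    exact ⟨⟨_, add_mem (hS v hv) hv⟩, nn_nn h v, rfl⟩
  have := Submodule.finrank_mono this
  omega

/-- an orthogonal module with radical `R` -/
structure Md (q : QuadraticForm (ZMod 2) V) (R : Submodule (ZMod 2) V) (θ : G0 →* V ≃ₗ[ZMod 2] V) : Prop where
  rad : ∀ v, v ∈ R ↔ ∀ w, polar q v w = 0
  qR : ∀ v ∈ R, q v = 0
  dim : finrank (ZMod 2) V = 8 + finrank (ZMod 2) R
  iso : ∀ g v, q (θ g v) = q v
  fix : ∀ g, ∀ v ∈ R, θ g v = v
  faith : ∀ g, (∀ v, θ g v + v ∈ R) → g = 1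

/-- the natural unitary module -/
def M8 (R : Submodule (ZMod 2) V) (θ : G0 →* V ≃ₗ[ZMod 2] V) : Prop := ∀ v, θ k3 v = v → v ∈ R

/-- the natural orthogonal module -/
def M6 (R : Submodule (ZMod 2) V) (θ : G0 →* V ≃ₗ[ZMod 2] V) : Prop :=
  finrank (ZMod 2) (ker (nn (θ k3))) = 6 + finrank (ZMod 2) R ∧
  finrank (ZMod 2) (ker (nn (θ (k1 * k2)))) = 4 + finrank (ZMod 2) R ∧
  finrank (ZMod 2) (ker (nn (θ (k1 * (k2 * k3))))) = 2 + finrank (ZMod 2) R

/-- the isometric involution `t` induces `u` -/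
structure Ac (q : QuadraticForm (ZMod 2) V) (θ : G0 →* V ≃ₗ[ZMod 2] V) (t : V ≃ₗ[ZMod 2] V) (u : GW) : Prop where
  tt : t * t = 1
  uu : u * u = 1
  ne : u ≠ 1
  iso : ∀ v, q (t v) = q v
  cj : ∀ w w' : G0, u * w = w' * u → t * θ w = θ w' * t
  inn : ∀ w : G0, u = w → t = θ w

/-- rank four -/
def Full (R : Submodule (ZMod 2) V) (t : V ≃ₗ[ZMod 2] V) : Prop := ∀ v, nn t v ∈ R → ∃ u, nn t u + v ∈ R

omit [Finite V] in
theorem finrank_ker_conj (g t : V ≃ₗ[ZMod 2] V) :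
    finrank (ZMod 2) (ker (nn (g * t * g⁻¹))) = finrank (ZMod 2) (ker (nn t)) := by
  rw [← LinearEquiv.finrank_map_eq g (ker (nn t)), show (ker (nn t)).map g.toLinearMap = ker (nn (g * t * g⁻¹)) from
    Submodule.ext fun v => by
      rw [Submodule.mem_map_equiv, mem_ker_nn, mem_ker_nn, ← g.injective.eq_iff, g.apply_symm_apply]; rfl]

namespace Md

variable {q : QuadraticForm (ZMod 2) V} {R : Submodule (ZMod 2) V} {θ : G0 →* V ≃ₗ[ZMod 2] V} (h : Md q R θ)
include h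

theorem dich : M8 R θ ∨ M6 R θ := by
  obtain ⟨⟨r1, r2, r3, r4, r5, r6⟩, -, -, -, n1, -⟩ := rel
  let _ := MulAction.compHom V θ
  let f : G0 → ℕ := fun w => finrank (ZMod 2) (ker (nn (θ w))) - finrank (ZMod 2) R
  have le : ∀ w, R ≤ ker (nn (θ w)) := fun w v hv => mem_ker_nn.2 (h.fix w v hv)
  have hf : ∀ w, finrank (ZMod 2) (ker (nn (θ w))) = f w + finrank (ZMod 2) R := fun w =>
    (Nat.sub_add_cancel (Submodule.finrank_mono (le w))).symm
  have hc : ∀ w : G0, Nat.card (MulAction.fixedBy V w) = 2 ^ f w * 2 ^ finrank (ZMod 2) R := fun w => by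
    rw [← pow_add, ← hf, ← card_v2]
    exact Nat.card_congr (Equiv.subtypeEquivRight fun v => mem_ker_nn.symm)
  have k := cls3 f (fun g w => congrArg (· - _) (by rw [map_mul, map_mul, map_inv, finrank_ker_conj])) fun w => by
    have : ker (nn (θ w⁻¹)) = ker (nn (θ w)) := Submodule.ext fun v => by
      rw [mem_ker_nn, mem_ker_nn, map_inv, eq_comm]; exact (θ w).eq_symm_apply
    exact congrArg (· - _) (by rw [this])
  have a := burn (α := V) r1 r2 r3 r4 r5 r6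
  have b := burn (α := V) r1 r2 (one_pow 3) r4 (Commute.one_right _) (Commute.one_right _)
  have k' := fun i j => k i j 0
  simp only [Fin.val_zero, pow_zero] at k'
  simp only [hc, one_pow, k, k', ← Finset.sum_mul] at a b
  replace a := (Nat.Coprime.pow_right _ (by norm_num)).dvd_of_dvd_mul_right a
  replace b := (Nat.Coprime.pow_right _ (by norm_num)).dvd_of_dvd_mul_right b
  simp only [Fin.sum_univ_three] at a b
  norm_num at a b
  have f1 : f 1 = 8 := by
    have := hf 1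
    rw [show ker (nn (θ 1)) = ⊤ from eq_top_iff.2 fun v _ => mem_ker_nn.2 (by simp), finrank_top, h.dim] at this
    omega
  have f8 : ∀ w, f w ≤ 8 := fun w => by have := hf w ▸ h.dim ▸ Submodule.finrank_le (ker (nn (θ w))); omega
  have f7 : f (k1 * (k2 * k3)) ≠ 8 := fun e => n1 (h.faith _ fun v => by
    have := Submodule.eq_top_of_finrank_eq (S := ker (nn (θ (k1 * (k2 * k3))))) (by rw [hf, e, h.dim])
    rw [mem_ker_nn.1 (this.ge Submodule.mem_top), v2_add_self]; exact zero_mem _)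
  have : (f k3 = 0 ∨ f k3 = 6) ∧ f (k1 * k2) = 4 ∧ f (k1 * (k2 * k3)) = 2 := by
    have a1 := f8 k3
    have a2 := f8 (k1 * k2)
    have a3 := f8 (k1 * (k2 * k3))
    rw [f1] at a b
    generalize f k3 = x, f (k1 * k2) = y, f (k1 * (k2 * k3)) = w at *
    interval_cases x <;> interval_cases y <;> first | omega | (interval_cases w <;> omega)
  refine this.1.imp (fun e v hv => (Submodule.eq_of_le_of_finrank_le (le k3) (by rw [hf, e, zero_add])).ge
    (mem_ker_nn.2 hv)) fun e => ⟨by rw [hf, e], by rw [hf, this.2.1], by rw [hf, this.2.2]⟩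

theorem fr_perp {S : Submodule (ZMod 2) V} (hS : R ≤ S) :
    finrank (ZMod 2) (perp q S) + finrank (ZMod 2) S = 8 + 2 * finrank (ZMod 2) R := by
  have := LinearMap.BilinForm.finrank_add_finrank_orthogonal (refl_bilin q) S
  rw [show S ⊓ LinearMap.BilinForm.orthogonal (polarBilin q) ⊤ = R from Submodule.ext fun v =>
    ⟨fun hv => (h.rad v).2 fun w => (polar_comm _ _ _).trans (hv.2 w trivial),
      fun hv => ⟨hS hv, fun w _ => (polar_comm _ _ _).trans ((h.rad v).1 hv w)⟩⟩, h.dim] at this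
  unfold perp
  omega

omit [Finite V] in
theorem le_perp (S : Submodule (ZMod 2) V) : R ≤ perp q S := fun v hv s _ =>
  (polar_comm _ _ _).trans ((h.rad v).1 hv s)

theorem perp_perp {S : Submodule (ZMod 2) V} (hS : R ≤ S) : perp q (perp q S) = S := by
  have h1 := h.fr_perp hS
  have h2 := h.fr_perp (h.le_perp S)
  exact (Submodule.eq_of_le_of_finrank_le (LinearMap.BilinForm.le_orthogonal_orthogonal (refl_bilin q))
    (show finrank (ZMod 2) (perp q (perp q S)) ≤ _ by omega)).symm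

omit [Finite V] in
theorem q_add_R (v : V) {r : V} (hr : r ∈ R) : q (v + r) = q v := by
  rw [q_add, h.qR r hr, polar_comm, (h.rad r).1 hr, add_zero, add_zero]

theorem perp_one {a b : V} (e : ∀ w, polar q a w = 0 → polar q b w = 0) : b ∈ R ∨ b + a ∈ R := by
  have : b ∈ Submodule.span (ZMod 2) {a} ⊔ R := h.perp_perp le_sup_right ▸ fun w hw => (polar_comm _ _ _).trans
    (e w (hw a (Submodule.mem_sup_left (Submodule.mem_span_singleton_self a))))
  obtain ⟨x, hx, r, hr, rfl⟩ := Submodule.mem_sup.1 this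
  rcases v2_mem_span.1 hx with rfl | rfl
  · exact Or.inl (by rwa [zero_add])
  · exact Or.inr (by rwa [add_comm x, v2_add_add_cancel'])

variable {t : V ≃ₗ[ZMod 2] V} {u : GW}

omit [Finite V] h in
theorem polar_nn (tt : t * t = 1) (iso : ∀ v, q (t v) = q v) (v w : V) :
    polar q (nn t v) w = polar q v (nn t w) := by
  rw [nn_apply, nn_apply, polar_add_left, polar_add_right, ← polar_isometry q (map_add t) iso v (t w), tt_apply tt]

omit [Finite V] h in
theorem q_nn (iso : ∀ v, q (t v) = q v) (v : V) : q (nn t v) = polar q v (nn t v) := by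
  rw [nn_apply, q_add, iso, polar_add_right, polar_self_two, polar_comm q v, CharTwo.add_self_eq_zero, zero_add,
    add_zero]

/-- no transvection has a singular centre -/
theorem no_tv (tt : t * t = 1) (iso : ∀ v, q (t v) = q v) {a : V} (ha : q a = 0)
    (e : ∀ v, polar q a v = 0 → nn t v ∈ R) (v : V) : nn t v ∈ R := by
  refine (h.perp_one (a := a) fun w hw => ?_).elim id fun hr => e v ?_
  · rw [polar_nn tt iso, polar_comm, (h.rad _).1 (e w hw)]
  · have := q_nn iso v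
    rwa [← v2_add_add_cancel' (nn t v) a, add_comm _ a, h.q_add_R _ hr, ha, polar_add_right, polar_comm q v,
      polar_comm q v, (h.rad _).1 hr, add_zero, eq_comm] at this

theorem perp_U (tt : t * t = 1) (iso : ∀ v, q (t v) = q v) :
    perp q (R.comap (nn t)) = range (nn t) ⊔ R := by
  rw [← h.perp_perp (S := range (nn t) ⊔ R) le_sup_right]
  congr 1
  ext v
  refine ⟨fun hv s hs => ?_, fun hv => (h.rad _).2 fun w => ?_⟩
  · obtain ⟨_, ⟨x, rfl⟩, r, hr, rfl⟩ := Submodule.mem_sup.1 hs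
    change polar q _ _ = 0
    rw [polar_add_left, polar_nn tt iso, (h.rad r).1 hr, polar_comm, (h.rad _).1 hv, add_zero]
  · rw [polar_nn tt iso, polar_comm]; exact hv _ (Submodule.mem_sup_left ⟨w, rfl⟩)

omit [Finite V] in
theorem map_R (iso : ∀ v, q (t v) = q v) {r : V} (hr : r ∈ R) : t r ∈ R := (h.rad _).2 fun w => by
  rw [← t.apply_symm_apply w, polar_isometry q (map_add t) iso, (h.rad r).1 hr]

omit [Finite V] in
theorem le_Ct (iso : ∀ v, q (t v) = q v) : R ≤ R.comap (nn t) := fun _ hr => add_mem (h.map_R iso hr) hr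

theorem mem_U (tt : t * t = 1) (iso : ∀ v, q (t v) = q v) {w : V} (e : ∀ v, nn t v ∈ R → polar q v w = 0) :
    ∃ v, nn t v + w ∈ R := by
  obtain ⟨_, ⟨x, rfl⟩, r, hr, rfl⟩ := Submodule.mem_sup.1 ((h.perp_U tt iso).le e)
  exact ⟨x, by rwa [v2_add_add_cancel]⟩

theorem full_iff (tt : t * t = 1) (iso : ∀ v, q (t v) = q v) :
    Full R t ↔ finrank (ZMod 2) (R.comap (nn t)) ≤ 4 + finrank (ZMod 2) R := by
  have h1 := h.fr_perp (h.le_Ct iso)
  rw [h.perp_U tt iso] at h1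
  have h2 : range (nn t) ⊔ R ≤ R.comap (nn t) :=
    sup_le (by rintro _ ⟨v, rfl⟩; rw [Submodule.mem_comap, nn_nn tt]; exact zero_mem R) (h.le_Ct iso)
  refine ⟨fun f => ?_, fun e v hv => ?_⟩
  · have := Submodule.finrank_mono (show R.comap (nn t) ≤ range (nn t) ⊔ R from fun v hv =>
      let ⟨x, hx⟩ := f v hv; Submodule.mem_sup.2 ⟨_, ⟨x, rfl⟩, _, hx, v2_add_add_cancel _ _⟩)
    omega
  · obtain ⟨_, ⟨x, rfl⟩, r, hr, rfl⟩ := Submodule.mem_sup.1 ((Submodule.eq_of_le_of_finrank_le h2 (by omega)).ge hv)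
    exact ⟨x, by rwa [v2_add_add_cancel]⟩

omit [Finite V] h in
theorem cube {d : G0} (hd : IsConj k3 d) : d ^ 3 = 1 := by
  obtain ⟨g, rfl⟩ := isConj_iff.1 hd
  rw [conj_pow, rel.1.2.2.1, mul_one, mul_inv_cancel]

omit [Finite V] in
theorem fix_of_mem {d : G0} (hd : d ^ 3 = 1) {v : V} (e : θ d v + v ∈ R) : θ d v = v := by
  have h1 := h.fix d _ e
  rw [map_add, add_comm (θ d v), add_left_inj] at h1
  have := ddd (d := θ d) (by rw [← map_pow, hd, map_one]) v
  rwa [h1] at this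

omit [Finite V] in
theorem fpf (m : M8 R θ) {d : G0} (hd : IsConj k3 d) {v : V} (e : θ d v = v) : v ∈ R := by
  obtain ⟨g, rfl⟩ := isConj_iff.1 hd
  have := h.map_R (h.iso g) (m (θ g⁻¹ v) (by
    conv_rhs => rw [← e, ← LinearEquiv.mul_apply, ← map_mul]
    rw [← LinearEquiv.mul_apply, ← map_mul]; congr 2; group))
  rwa [← LinearEquiv.mul_apply, ← map_mul, mul_inv_cancel, map_one] at this

omit [Finite V] in
theorem full_of (m : M8 R θ) (a : Ac q θ t u) (n : NI u) : Full R t := fun v hv => by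
  obtain ⟨d, hd, e⟩ := n
  have h1 := LinearEquiv.congr_fun (a.cj d (d * d) e) v
  have h2 := h.fpf m hd (fix_tr (by rw [← map_pow, cube hd, map_one]) v)
  refine ⟨θ d v, ?_⟩
  have := add_mem h2 (h.map_R (h.iso d) (h.map_R (h.iso d) hv))
  simp only [nn_apply, map_add, map_mul, LinearEquiv.mul_apply] at h1 this ⊢
  rw [h1]
  convert this using 1
  rw [add_comm (θ d (θ d (t v))) (θ d (θ d v)), add_assoc (v + θ d v), v2_add_add_cancel]
  abel

omit [Finite V] h in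
theorem tA_cent (g : G0) (x : G0) (e : tA * x = x * tA) : g * tA * g⁻¹ * (g * x * g⁻¹) = g * x * g⁻¹ * (g * tA * g⁻¹) := by
  rw [conj_mul, conj_mul, e]

omit [Finite V] in
theorem delta (m : M8 R θ) (g : G0) {v : V} (e : nn (θ (g * tA * g⁻¹)) v ∈ R) : nn (θ (g * tA * g⁻¹)) v = 0 := by
  have hd : IsConj k3 (g * k3 * g⁻¹) := isConj_iff.2 ⟨g, rfl⟩
  have c := congrArg θ (tA_cent g k3 rel.2.1.2.2.2)
  rw [map_mul θ (g * tA * g⁻¹), map_mul θ (g * k3 * g⁻¹)] at c
  have h2 := h.fix (g * tA * g⁻¹) _ (h.fpf m hd (fix_tr (by rw [← map_pow, cube hd, map_one]) v))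
  rwa [← mem_ker_nn, mem_ker, map_add, map_add, nn_comm c, nn_comm c, nn_comm c, h.fix _ _ e, h.fix _ _ e,
    v2_add_self, zero_add] at h2

theorem par8 (m : M8 R θ) (g : G0) :
    finrank (ZMod 2) (R.comap (nn (θ (g * tA * g⁻¹)))) % 2 = finrank (ZMod 2) R % 2 := by
  have hd : IsConj k3 (g * k3 * g⁻¹) := isConj_iff.2 ⟨g, rfl⟩
  have c := congrArg θ (tA_cent g k3 rel.2.1.2.2.2)
  rw [map_mul θ (g * tA * g⁻¹), map_mul θ (g * k3 * g⁻¹)] at c
  rw [parity (d := θ (g * k3 * g⁻¹)) (by rw [← map_pow, cube hd, map_one])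
    (fun v hv => by rw [Submodule.mem_comap, nn_comm c]; exact h.map_R (h.iso _) hv),
    show _ ⊓ ker _ = R from le_antisymm (fun v hv => h.fpf m hd (mem_ker_nn.1 hv.2))
      (le_inf (h.le_Ct (h.iso _)) fun v hv => mem_ker_nn.2 (h.fix _ v hv))]

theorem two_le (tt : t * t = 1) (iso : ∀ v, q (t v) = q v) (ts : ∀ v, q (nn t v) = 0) {v : V} (hv : nn t v ∉ R) :
    finrank (ZMod 2) (R.comap (nn t)) ≤ 6 + finrank (ZMod 2) R := by
  by_contra hc
  refine hv (h.no_tv tt iso (ts v) (fun w hw => by_contra fun hn => ?_) v)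
  have h1 := h.fr_perp (S := Submodule.span (ZMod 2) {nn t v} ⊔ R) le_sup_right
  have h2 : R < Submodule.span (ZMod 2) {nn t v} ⊔ R :=
    lt_of_le_of_ne le_sup_right fun e => hv (e.ge (Submodule.mem_sup_left (Submodule.mem_span_singleton_self _)))
  have h3 : R.comap (nn t) < perp q (Submodule.span (ZMod 2) {nn t v} ⊔ R) := by
    refine lt_of_le_of_ne ?_ fun e => hn (e.ge fun s hs => ?_)
    · rw [← h.perp_perp (h.le_Ct iso), h.perp_U tt iso]
      exact perp_anti (sup_le_sup_right (Submodule.span_le.2 (by simp)) R)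
    · obtain ⟨x, hx, r, hr, rfl⟩ := Submodule.mem_sup.1 hs
      change polar q _ _ = 0
      rcases v2_mem_span.1 hx with rfl | rfl <;> simp [polar_add_left, (h.rad r).1 hr, hw]
  have := Submodule.finrank_lt_finrank_of_lt h2
  have := Submodule.finrank_lt_finrank_of_lt h3
  omega

theorem range6 (m : M6 R θ) {d : G0} (hd : IsConj k3 d) : finrank (ZMod 2) (range (nn (θ d))) = 2 := by
  obtain ⟨g, rfl⟩ := isConj_iff.1 hd
  have := finrank_range_add_finrank_ker (nn (θ (g * k3 * g⁻¹)))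
  rw [map_mul, map_mul, map_inv, finrank_ker_conj, m.1, h.dim] at this
  rw [map_mul, map_mul, map_inv]
  omega

theorem exists_fix (m : M6 R θ) : ∃ F : Submodule (ZMod 2) V, 2 + finrank (ZMod 2) R ≤ finrank (ZMod 2) F ∧
    ∀ v, v ∈ F ↔ ∀ g, θ g v = v := by
  refine ⟨ker (nn (θ k1)) ⊓ ker (nn (θ d2)) ⊓ ker (nn (θ k2)), ?_, fun v => ⟨fun hv g => ?_, fun hv =>
    ⟨⟨mem_ker_nn.2 (hv _), mem_ker_nn.2 (hv _)⟩, mem_ker_nn.2 (hv _)⟩⟩⟩
  · have a := fun d hd => h.range6 m hd ▸ finrank_range_add_finrank_ker (nn (θ d))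
    have b := fun A B : Submodule (ZMod 2) V => Submodule.finrank_sup_add_finrank_inf_eq A B
    have := a _ isConj_k1
    have := a _ isConj_k2
    have := a _ isConj_d2
    have := b (ker (nn (θ k1))) (ker (nn (θ d2)))
    have := b (ker (nn (θ k1)) ⊓ ker (nn (θ d2))) (ker (nn (θ k2)))
    have := Submodule.finrank_le (ker (nn (θ k1)) ⊔ ker (nn (θ d2)))
    have := Submodule.finrank_le (ker (nn (θ k1)) ⊓ ker (nn (θ d2)) ⊔ ker (nn (θ k2)))
    have := h.dim
    omega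
  · have : Subgroup.closure {k1, d2, k2} ≤ (MulAction.stabilizer (V ≃ₗ[ZMod 2] V) v).comap θ :=
      (Subgroup.closure_le _).2 (by
        rintro _ (rfl | rfl | rfl)
        exacts [mem_ker_nn.1 hv.1.1, mem_ker_nn.1 hv.1.2, mem_ker_nn.1 hv.2])
    exact this (gen_G0 ▸ Subgroup.mem_top g)

omit [Finite V] h in
theorem mem_range_cj {d d' : V ≃ₗ[ZMod 2] V} (e : t * d = d' * t) {v : V} (hv : v ∈ range (nn d)) :
    t v ∈ range (nn d') := by
  obtain ⟨x, rfl⟩ := hv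
  exact ⟨t x, by rw [nn_apply, nn_apply, map_add, ← LinearEquiv.mul_apply, ← e]; rfl⟩

omit [Finite V] h in
theorem range_sq {d : V ≃ₗ[ZMod 2] V} : range (nn (d * d)) ≤ range (nn d) := by
  rintro _ ⟨x, rfl⟩
  exact ⟨d x + x, by rw [nn_apply, map_add, add_assoc, v2_add_add_cancel]; rfl⟩

omit h in
theorem exists_move {d : V ≃ₗ[ZMod 2] V} (d3 : d ^ 3 = 1) (h2 : finrank (ZMod 2) (range (nn d)) = 2)
    (e : t * d = d * d * t) : ∃ p ∈ range (nn d), t p ≠ p := by
  by_contra! hc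
  refine Submodule.finrank_eq_zero.not.1 (by rw [h2]; exact two_ne_zero) (eq_bot_iff.2 fun p hp => eq_zero_of_fix d3 hp ?_)
  have := LinearEquiv.congr_fun e p
  rw [LinearEquiv.mul_apply, hc _ (mem_range_cj rfl hp), LinearEquiv.mul_apply, hc p hp] at this
  exact d.injective this.symm

theorem not_ts (m : M6 R θ) (a : Ac q θ t u) (n : NI u) : ∃ v, q (nn t v) ≠ 0 := by
  obtain ⟨d, hd, e⟩ := n
  have c := a.cj d (d * d) e
  rw [map_mul] at c
  have d3 : θ d ^ 3 = 1 := by rw [← map_pow, cube hd, map_one]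
  obtain ⟨p, hp, n⟩ := exists_move d3 (h.range6 m hd) c
  refine ⟨p, fun h0 => n (v2_add_eq_zero.1 ?_)⟩
  have hx : nn t p ∈ range (nn (θ d)) := add_mem (range_sq (mem_range_cj c hp)) hp
  change nn t p = 0
  generalize nn t p = x at h0 hx
  by_contra x0
  have i := polar_isometry q (map_add (θ d)) (h.iso d)
  have tr : x + θ d x = θ d (θ d x) := v2_add_eq_zero.1 (eq_zero_of_fix d3
    (add_mem (add_mem hx (mem_range_cj rfl hx)) (mem_range_cj rfl (mem_range_cj rfl hx))) (fix_tr d3 x))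
  have S := eq_of_inv d3 (h.range6 m hd) (S := range (nn (θ d)) ⊓ perp q (Submodule.span (ZMod 2) {x}) ⊓
    perp q (Submodule.span (ZMod 2) {θ d x})) (fun v hv => ⟨⟨mem_range_cj rfl hv.1.1, mem_perp_span.2 (by
      rw [← ddd d3 x, i, ← tr, polar_add_left, mem_perp_span.1 hv.1.2, mem_perp_span.1 hv.2, add_zero])⟩,
      mem_perp_span.2 (by rw [i, mem_perp_span.1 hv.1.2])⟩) (inf_le_left.trans inf_le_left)
    fun e => x0 (e.le ⟨⟨hx, mem_perp_span.2 (polar_self_two q x)⟩, mem_perp_span.2 (by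
      rw [polar_comm]; exact polar_eq_zero_of q h0 ((h.iso d x).trans h0) (by rw [tr, h.iso, h.iso, h0]))⟩)
  refine x0 (eq_zero_of_fix d3 hx (h.fix d x ((h.rad x).2 fun w => ?_)))
  rw [← tr_nn (d := θ d) w, polar_add_right, mem_perp_span.1 (S.ge ⟨_, rfl⟩).1.2, add_zero]
  obtain ⟨y, rfl⟩ := hx
  rw [nn_apply, polar_add_left, ← fix_tr d3 w, i, fix_tr d3 w, CharTwo.add_self_eq_zero]

theorem ker6 (m : M6 R θ) {s : G0} (s2 : s * s = 1) (c3 : s * k3 = k3 * s)
    (c : s * (k1 * k2) = k1 * k2 * s ∨ s * (k1 * k2) = k1 * k2 * (k1 * k2) * s) :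
    range (nn (θ s)) ≤ range (nn (θ (k1 * k2))) ∧
      6 + finrank (ZMod 2) R ≤ finrank (ZMod 2) (ker (nn (θ s))) := by
  obtain ⟨⟨r1, r2, r3, r4, r5, r6⟩, -⟩ := rel
  obtain ⟨F, hF, mF⟩ := h.exists_fix m
  have t2 : θ s * θ s = 1 := by rw [← map_mul, s2, map_one]
  have d3 : θ k3 ^ 3 = 1 := by rw [← map_pow, r3, map_one]
  have e3 : θ (k1 * k2) ^ 3 = 1 := by rw [← map_pow, (show Commute k1 k2 from r4).mul_pow, r1, r2, one_mul, map_one]
  have c3' : θ s * θ k3 = θ k3 * θ s := by rw [← map_mul, c3, map_mul]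
  have c12 : θ (k1 * k2) * θ k3 = θ k3 * θ (k1 * k2) := by
    rw [← map_mul, ← map_mul, ((show Commute k1 k3 from r5).mul_left r6).eq]
  have a1 := eq_of_inv d3 (h.range6 m (IsConj.refl _)) (S := range (nn (θ k3)) ⊓ ker (nn (θ s)))
    (fun v hv => ⟨mem_range_cj rfl hv.1, by rw [SetLike.mem_coe, mem_ker, nn_comm c3', hv.2, map_zero]⟩) inf_le_left
    fun e => by
      have h1 := finrank_range_add_finrank_ker ((nn (θ s)).domRestrict (range (nn (θ k3))))
      have h2 := two_mul_map_le t2 fun v hv => mem_range_cj c3' hv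
      rw [range_domRestrict, ker_domRestrict, ← Submodule.finrank_map_subtype_eq, Submodule.map_comap_subtype, e,
        finrank_bot, h.range6 m (IsConj.refl _)] at h1
      rw [h.range6 m (IsConj.refl _)] at h2
      omega
  have a2 : F = ker (nn (θ (k1 * (k2 * k3)))) :=
    Submodule.eq_of_le_of_finrank_le (fun v hv => mem_ker_nn.2 ((mF v).1 hv _)) (m.2.2 ▸ hF)
  have a3 : ∀ w, θ (k1 * k2) w = w → nn (θ s) w = 0 := fun w hw => by
    rw [← tr_nn (d := θ k3) w, map_add, (a1.ge ⟨_, rfl⟩).2, add_zero]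
    refine mem_ker_nn.2 ((mF _).1 (a2.ge (mem_ker_nn.2 ?_)) s)
    have k : ∀ x, θ (k1 * k2) x = x → θ (k1 * k2) (θ k3 x) = θ k3 x := fun x hx => by
      rw [← LinearEquiv.mul_apply, c12, LinearEquiv.mul_apply, hx]
    rw [← mul_assoc, map_mul, LinearEquiv.mul_apply, fix_tr d3, map_add, map_add, hw, k _ hw, k _ (k _ hw)]
  have a4 : ∀ v ∈ range (nn (θ (k1 * k2))), θ s v ∈ range (nn (θ (k1 * k2))) := fun v hv =>
    c.elim (fun e => mem_range_cj (by rw [← map_mul, e, map_mul]) hv) fun e =>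
      range_sq (mem_range_cj (by rw [← map_mul, e, map_mul, map_mul θ (k1 * k2)]) hv)
  have a5 : range (nn (θ s)) ≤ (range (nn (θ (k1 * k2)))).map (nn (θ s)) := by
    rintro _ ⟨v, rfl⟩
    rw [← tr_nn (d := θ (k1 * k2)) v, map_add, a3 _ (fix_tr e3 v), zero_add]
    exact ⟨_, ⟨_, rfl⟩, rfl⟩
  refine ⟨a5.trans (by rintro _ ⟨v, hv, rfl⟩; exact add_mem (a4 v hv) hv), ?_⟩
  have := Submodule.finrank_mono a5
  have := two_mul_map_le t2 a4
  have := finrank_range_add_finrank_ker (nn (θ s))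
  have := finrank_range_add_finrank_ker (nn (θ (k1 * k2)))
  have := m.2.1
  have := h.dim
  omega

theorem beta6 (m : M6 R θ) (a : Ac q θ t u) (hu : u ∈ G0) :
    6 + finrank (ZMod 2) R ≤ finrank (ZMod 2) (ker (nn t)) := by
  obtain ⟨⟨-, -, -, r4, -⟩, ⟨a1, a2, a3, a4⟩, ⟨b1, b2, b3, b4⟩, -⟩ := rel
  rcases inv_cases a.uu a.ne with ⟨g, e⟩ | ⟨-, e⟩
  · rw [a.inn _ e, map_mul, map_mul, map_inv, finrank_ker_conj]
    exact (h.ker6 m a1 a4 (Or.inl (by rw [← mul_assoc, a2, mul_assoc, a3, ← mul_assoc, r4]))).2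
  · obtain ⟨g, e⟩ := e hu
    rw [a.inn _ e, map_mul, map_mul, map_inv, finrank_ker_conj]
    exact (h.ker6 m b1 b4 (Or.inr (by
      rw [← mul_assoc, b2, mul_assoc, b3, mul_assoc k1 k2, ← mul_assoc k2 k1, ← r4]; simp only [mul_assoc]))).2

theorem l4m (a : Ac q θ t u) {v : V} (hv : nn t v ∉ R) (m : M8 R θ ∨ M6 R θ ∧ ∀ v, q (nn t v) = 0)
    {P : Submodule (ZMod 2) V} (hP : P ≤ ker (nn t)) (h6 : 6 + finrank (ZMod 2) R ≤ finrank (ZMod 2) P) :
    R.comap (nn t) = P ∧ (∃ g : G0, u = (g * tA * g⁻¹ : G0)) ∧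
      ∃ d : G0, d ^ 3 = 1 ∧ u * d = d * u ∧ ∀ w ∈ perp q P, θ (d * d) w = w → w ∈ R := by
  have h1 : P ≤ R.comap (nn t) := fun v hv => by rw [Submodule.mem_comap, hP hv]; exact zero_mem R
  have h2 := Submodule.finrank_mono h1
  obtain ⟨g, e⟩ : ∃ g : G0, u = (g * tA * g⁻¹ : G0) := (inv_cases a.uu a.ne).resolve_right fun n =>
    m.elim (fun m => by have := (h.full_iff a.tt a.iso).1 (h.full_of m a n.1); omega) fun m =>
      let ⟨v, hv⟩ := h.not_ts m.1 a n.1; hv (m.2 v)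
  have h3 : R.comap (nn t) = P := (Submodule.eq_of_le_of_finrank_le h1 (le_trans (m.elim (fun m => by
    have := a.inn _ e ▸ h.par8 m g
    have := Submodule.finrank_lt (s := R.comap (nn t)) fun e => hv (e.ge Submodule.mem_top)
    have := h.dim
    omega) fun m => h.two_le a.tt a.iso m.2 hv) h6)).symm
  have k : ∀ {d : G0} {w}, d ^ 3 = 1 → θ (d * d) w = w → θ d w = w := fun {d w} d3 e => by
    have := ddd (d := θ d) (by rw [← map_pow, d3, map_one]) w
    rwa [← LinearEquiv.mul_apply _ _ w, ← map_mul, e] at this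
  refine ⟨h3, ⟨g, e⟩, m.elim (fun m => ?_) fun m => ?_⟩
  · have hd : IsConj k3 (g * k3 * g⁻¹) := isConj_iff.2 ⟨g, rfl⟩
    exact ⟨_, cube hd, e ▸ congrArg Subtype.val (tA_cent g k3 rel.2.1.2.2.2), fun w _ hw => h.fpf m hd (k (cube hd) hw)⟩
  obtain ⟨⟨r1, r2, -, r4, -⟩, ⟨a1, a2, a3, a4⟩, -⟩ := rel
  have c : tA * (k1 * k2) = k1 * k2 * tA := by rw [← mul_assoc, a2, mul_assoc, a3, ← mul_assoc, r4]
  have d3 : (g * (k1 * k2) * g⁻¹) ^ 3 = 1 := by
    rw [conj_pow, (show Commute k1 k2 from r4).mul_pow, r1, r2, one_mul, mul_one, mul_inv_cancel]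
  refine ⟨_, d3, e ▸ congrArg Subtype.val (tA_cent g _ c), fun w hw e' => ?_⟩
  rw [← h3, h.perp_U a.tt a.iso] at hw
  obtain ⟨x, ⟨y, hy⟩, r, hr, rfl⟩ := Submodule.mem_sup.1 hw
  have := k d3 e'
  rw [map_add, h.fix _ r hr, add_left_inj] at this
  rwa [eq_zero_of_fix (by rw [← map_pow, d3, map_one]) ?_ this, zero_add]
  rw [← hy, a.inn _ e, ← (θ g).apply_symm_apply y]
  convert mem_range_cj (t := θ g) (d' := θ (g * (k1 * k2) * g⁻¹)) (by rw [← map_mul, ← map_mul, inv_mul_cancel_right])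
    ((h.ker6 m.1 a1 a4 (Or.inl c)).1 ⟨(θ g).symm y, rfl⟩) using 1
  rw [nn_apply, nn_apply, map_add, ← LinearEquiv.mul_apply, ← map_mul, inv_mul_cancel_right, map_mul]; rfl

theorem l1m (m : M8 R θ) {t2 t3 : V ≃ₗ[ZMod 2] V} {u2 u3 : GW} (a : Ac q θ t u) (a2 : Ac q θ t2 u2)
    (a3 : Ac q θ t3 u3) (fo : NI u ∨ NI u2 ∨ NI u3) {P : Submodule (ZMod 2) V} (p1 : P ≤ ker (nn t))
    (p2 : P ≤ ker (nn t2)) (p3 : P ≤ ker (nn t3)) (hP : finrank (ZMod 2) (ker (nn t)) ≤ finrank (ZMod 2) P + 1) :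
    Full R t := by
  by_contra hf
  obtain ⟨g, e⟩ := (inv_cases a.uu a.ne).resolve_right fun n => hf (h.full_of m a n.1)
  have h1 := (h.full_iff a.tt a.iso).not.1 hf
  have h2 := a.inn _ e ▸ h.par8 m g
  have h3 := Submodule.finrank_mono (show R.comap (nn t) ≤ ker (nn t) from fun v hv => by
    rw [a.inn _ e] at hv ⊢; exact h.delta m g hv)
  have k : ∀ {t u}, Ac q θ t u → P ≤ ker (nn t) → ¬ NI u := fun {t u} a p n => by
    have := (h.full_iff a.tt a.iso).1 (h.full_of m a n)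
    have := Submodule.finrank_mono (show P ≤ R.comap (nn t) from fun v hv => by
      rw [Submodule.mem_comap, p hv]; exact zero_mem R)
    omega
  exact fo.elim (k a p1) fun fo => fo.elim (k a2 p2) (k a3 p3)

theorem l5m (m : M8 R θ) (a : Ac q θ t u) {w : V} (e : ∀ v, nn t v = 0 → polar q v w = 0) : ∃ v, nn t v + w ∈ R := by
  refine h.mem_U a.tt a.iso fun v hv => ?_
  rcases inv_cases a.uu a.ne with ⟨g, e'⟩ | n
  · exact e v (by rw [a.inn _ e'] at hv ⊢; exact h.delta m g hv)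
  · obtain ⟨x, hx⟩ := h.full_of m a n.1 v hv
    rw [← v2_add_add_cancel (nn t x) v, polar_add_left, e _ (nn_nn a.tt x), (h.rad _).1 hx, add_zero]

theorem comm_fix (m : M6 R θ) {c : V ≃ₗ[ZMod 2] V} (hc : ∀ g, c * θ g = θ g * c) : ∃ w, w ∉ R ∧ c w = w := by
  have d3 : θ k1 ^ 3 = 1 := by rw [← map_pow, rel.1.1, map_one]
  have c1 : θ tB * θ k1 = θ k1 * θ k1 * θ tB := by rw [← map_mul, rel.2.2.1.2.1, map_mul, map_mul]
  have h2 := h.range6 m isConj_k1
  obtain ⟨p, hp, n⟩ := exists_move d3 h2 c1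
  have hx : nn (θ tB) p ∈ range (nn (θ k1)) ⊓ ker (nn (θ tB)) :=
    ⟨add_mem (range_sq (mem_range_cj c1 hp)) hp, nn_nn (by rw [← map_mul, rel.2.2.1.1, map_one]) p⟩
  have x0 : nn (θ tB) p ≠ 0 := fun e => n (v2_add_eq_zero.1 e)
  generalize nn (θ tB) p = x at hx x0
  refine ⟨x, fun hr => x0 (eq_zero_of_fix d3 hx.1 (h.fix _ _ hr)), ?_⟩
  have h3 := Submodule.finrank_lt_finrank_of_lt (lt_of_le_of_ne (inf_le_left : _ ⊓ ker (nn (θ tB)) ≤ range (nn (θ k1)))
    fun e => n (mem_ker_nn.1 (e.ge hp).2))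
  have h4 := Submodule.eq_of_le_of_finrank_le ((Submodule.span_singleton_le_iff_mem _ _).2 hx)
    (by rw [finrank_span_singleton x0]; omega)
  refine (v2_mem_span.1 (h4.ge ⟨mem_range_cj (hc _) hx.1, ?_⟩)).resolve_left (by simpa using x0)
  rw [SetLike.mem_coe, mem_ker, nn_comm (hc _).symm, hx.2, map_zero]

end Md

end CL.W6
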